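import Cfsg.Agent.J4.Cv

/-! Data for local subgroups of the automorphism group of the Mathieu group of degree 22. -/

set_option autoImplicit false
set_option maxRecDepth 1000000
set_option maxHeartbeats 0

namespace CF.JX
open CF.Comp CF.Dce CF.Bt CF.J4

noncomputable def wX : List (List ℕ) := [[(nat_lit 6), (nat_lit 2), (nat_lit 4), (nat_lit 6), (nat_lit 2), (nat_lit 5), (nat_lit 4), (nat_lit 2), (nat_lit 5), (nat_lit 4)],
  [(nat_lit 2), (nat_lit 3), (nat_lit 5), (nat_lit 1), (nat_lit 5), (nat_lit 1), (nat_lit 5), (nat_lit 2), (nat_lit 3), (nat_lit 6), (nat_lit 1)],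
  [(nat_lit 1), (nat_lit 6), (nat_lit 2), (nat_lit 5), (nat_lit 3), (nat_lit 5), (nat_lit 1), (nat_lit 5), (nat_lit 2)],
  [(nat_lit 3), (nat_lit 2), (nat_lit 5), (nat_lit 1), (nat_lit 6), (nat_lit 1), (nat_lit 5), (nat_lit 5), (nat_lit 1), (nat_lit 6), (nat_lit 1), (nat_lit 1)],
  [(nat_lit 5), (nat_lit 1), (nat_lit 6), (nat_lit 2), (nat_lit 5), (nat_lit 3), (nat_lit 1), (nat_lit 5), (nat_lit 3), (nat_lit 2)],
  [(nat_lit 5), (nat_lit 1), (nat_lit 6), (nat_lit 4), (nat_lit 2), (nat_lit 6), (nat_lit 1), (nat_lit 3), (nat_lit 5), (nat_lit 1)],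
  [(nat_lit 7), (nat_lit 4), (nat_lit 2), (nat_lit 5), (nat_lit 1), (nat_lit 3), (nat_lit 6), (nat_lit 2), (nat_lit 6), (nat_lit 1), (nat_lit 5), (nat_lit 2)],
  [(nat_lit 6), (nat_lit 1), (nat_lit 6), (nat_lit 1), (nat_lit 5), (nat_lit 1), (nat_lit 1), (nat_lit 6), (nat_lit 4), (nat_lit 1), (nat_lit 1)],
  [(nat_lit 6), (nat_lit 1), (nat_lit 5), (nat_lit 2), (nat_lit 4), (nat_lit 5), (nat_lit 1), (nat_lit 6), (nat_lit 1), (nat_lit 5)],
  [(nat_lit 4), (nat_lit 5), (nat_lit 1), (nat_lit 6), (nat_lit 1), (nat_lit 1), (nat_lit 5), (nat_lit 2)],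
  [(nat_lit 7), (nat_lit 5), (nat_lit 2), (nat_lit 5), (nat_lit 1), (nat_lit 3), (nat_lit 5), (nat_lit 2), (nat_lit 5), (nat_lit 1), (nat_lit 6), (nat_lit 1), (nat_lit 1)]]
noncomputable def nX_0 : Net := (Net.cons (nat_lit 1) (nat_lit 1070100) (Net.cons (nat_lit 2) (nat_lit 3150336) (Net.cons (nat_lit 4) (nat_lit 524544) (Net.cons (nat_lit 8) (nat_lit 8) (Net.cons (nat_lit 16) (nat_lit 8) (Net.cons (nat_lit 8) (nat_lit 26) (Net.cons (nat_lit 4) (nat_lit 66826) (Net.cons (nat_lit 2) (nat_lit 3146256) (Net.cons (nat_lit 1) (nat_lit 1135632) Net.nil)))))))))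
noncomputable def nX_1 : Net := (Net.cons (nat_lit 1) (nat_lit 1048832) (Net.cons (nat_lit 2) (nat_lit 204800) (Net.cons (nat_lit 4) (nat_lit 66560) (Net.cons (nat_lit 8) (nat_lit 18) (Net.cons (nat_lit 16) (nat_lit 50) (Net.cons (nat_lit 8) (nat_lit 80) (Net.cons (nat_lit 4) (nat_lit 199690) (Net.cons (nat_lit 2) (nat_lit 200960) (Net.cons (nat_lit 1) (nat_lit 1048852) Net.nil)))))))))
noncomputable def nX_2 : Net := (Net.cons (nat_lit 1) (nat_lit 1311040) (Net.cons (nat_lit 4) (nat_lit 131328) (Net.cons (nat_lit 8) (nat_lit 4) (Net.cons (nat_lit 16) (nat_lit 6) (Net.cons (nat_lit 8) (nat_lit 20) (Net.cons (nat_lit 4) (nat_lit 133376) (Net.cons (nat_lit 2) (nat_lit 4128) (Net.cons (nat_lit 1) (nat_lit 1376580) Net.nil))))))))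
noncomputable def nX_3 : Net := (Net.cons (nat_lit 1) (nat_lit 1049680) (Net.cons (nat_lit 2) (nat_lit 1048576) (Net.cons (nat_lit 4) (nat_lit 589824) (Net.cons (nat_lit 8) (nat_lit 1) (Net.cons (nat_lit 16) (nat_lit 179) (Net.cons (nat_lit 8) (nat_lit 1) (Net.cons (nat_lit 4) (nat_lit 983042) (Net.cons (nat_lit 2) (nat_lit 1184288) (Net.cons (nat_lit 1) (nat_lit 1049680) Net.nil)))))))))
noncomputable def nX_4 : Net := (Net.cons (nat_lit 1) (nat_lit 4198464) (Net.cons (nat_lit 2) (nat_lit 1179904) (Net.cons (nat_lit 4) (nat_lit 131840) (Net.cons (nat_lit 8) (nat_lit 100) (Net.cons (nat_lit 16) (nat_lit 100) (Net.cons (nat_lit 8) (nat_lit 118) (Net.cons (nat_lit 4) (nat_lit 131840) (Net.cons (nat_lit 2) (nat_lit 3277088) (Net.cons (nat_lit 1) (nat_lit 4264000) Net.nil)))))))))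
noncomputable def nX_5 : Net := (Net.cons (nat_lit 1) (nat_lit 81920) (Net.cons (nat_lit 2) (nat_lit 205088) (Net.cons (nat_lit 4) (nat_lit 984832) (Net.cons (nat_lit 8) (nat_lit 33) (Net.cons (nat_lit 16) (nat_lit 225) (Net.cons (nat_lit 8) (nat_lit 63) (Net.cons (nat_lit 4) (nat_lit 984832) (Net.cons (nat_lit 2) (nat_lit 205088) (Net.cons (nat_lit 1) (nat_lit 81920) Net.nil)))))))))
noncomputable def nX_6 : Net := (Net.cons (nat_lit 1) (nat_lit 4195344) (Net.cons (nat_lit 2) (nat_lit 1179680) (Net.cons (nat_lit 4) (nat_lit 65536) (Net.cons (nat_lit 8) (nat_lit 2) (Net.cons (nat_lit 16) (nat_lit 3) (Net.cons (nat_lit 8) (nat_lit 174) (Net.cons (nat_lit 4) (nat_lit 67592) (Net.cons (nat_lit 2) (nat_lit 1179696) (Net.cons (nat_lit 1) (nat_lit 4260880) Net.nil)))))))))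
noncomputable def nX_7 : Net := (Net.cons (nat_lit 1) (nat_lit 1314816) (Net.cons (nat_lit 2) (nat_lit 3223552) (Net.cons (nat_lit 4) (nat_lit 786432) (Net.cons (nat_lit 8) (nat_lit 9) (Net.cons (nat_lit 16) (nat_lit 13) (Net.cons (nat_lit 8) (nat_lit 43) (Net.cons (nat_lit 4) (nat_lit 787464) (Net.cons (nat_lit 2) (nat_lit 3223568) (Net.cons (nat_lit 1) (nat_lit 1314816) Net.nil)))))))))
noncomputable def nX_8 : Net := (Net.cons (nat_lit 1) (nat_lit 5308672) (Net.cons (nat_lit 2) (nat_lit 4096) (Net.cons (nat_lit 4) (nat_lit 1024) (Net.cons (nat_lit 8) (nat_lit 21) (Net.cons (nat_lit 16) (nat_lit 21) (Net.cons (nat_lit 8) (nat_lit 87) (Net.cons (nat_lit 4) (nat_lit 1024) (Net.cons (nat_lit 2) (nat_lit 2232320) (Net.cons (nat_lit 1) (nat_lit 5308688) Net.nil)))))))))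
noncomputable def nX_9 : Net := (Net.cons (nat_lit 1) (nat_lit 5324816) (Net.cons (nat_lit 2) (nat_lit 12288) (Net.cons (nat_lit 4) (nat_lit 262400) (Net.cons (nat_lit 16) (nat_lit 64) (Net.cons (nat_lit 8) (nat_lit 16) (Net.cons (nat_lit 4) (nat_lit 984834) (Net.cons (nat_lit 2) (nat_lit 2240512) (Net.cons (nat_lit 1) (nat_lit 5324816) Net.nil))))))))
noncomputable def nX_10 : Net := (Net.cons (nat_lit 1) (nat_lit 5525824) (Net.cons (nat_lit 2) (nat_lit 1048592) (Net.cons (nat_lit 4) (nat_lit 459776) (Net.cons (nat_lit 16) (nat_lit 67) (Net.cons (nat_lit 8) (nat_lit 28) (Net.cons (nat_lit 4) (nat_lit 459776) (Net.cons (nat_lit 2) (nat_lit 1057040) (Net.cons (nat_lit 1) (nat_lit 5525824) Net.nil))))))))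
noncomputable def nX : List Net := [nX_0, nX_1, nX_2, nX_3, nX_4, nX_5, nX_6, nX_7, nX_8, nX_9, nX_10]
noncomputable def cX0 : List Lvl := [⟨(nat_lit 1), [[(nat_lit 3)],
  [(nat_lit 7)],
  [(nat_lit 13)],
  [(nat_lit 15)]], (nat_lit 4)⟩,
  ⟨(nat_lit 2), [[(nat_lit 13)],
  [(nat_lit 3), (nat_lit 7)],
  [(nat_lit 16), (nat_lit 4), (nat_lit 1)]], (nat_lit 4)⟩,
  ⟨(nat_lit 0), [[(nat_lit 2), (nat_lit 10), (nat_lit 11), (nat_lit 1)],
  [(nat_lit 2), (nat_lit 6), (nat_lit 15), (nat_lit 3)],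
  [(nat_lit 3), (nat_lit 6), (nat_lit 7), (nat_lit 4)],
  [(nat_lit 6), (nat_lit 14), (nat_lit 11), (nat_lit 9)]], (nat_lit 1)⟩,
  ⟨(nat_lit 3), [[(nat_lit 2), (nat_lit 10), (nat_lit 11), (nat_lit 1)],
  [(nat_lit 2), (nat_lit 6), (nat_lit 15), (nat_lit 3)],
  [(nat_lit 3), (nat_lit 12), (nat_lit 1), (nat_lit 9)]], (nat_lit 3)⟩,
  ⟨(nat_lit 4), [[(nat_lit 2), (nat_lit 6), (nat_lit 15), (nat_lit 3)],
  [(nat_lit 1), (nat_lit 10), (nat_lit 7), (nat_lit 4), (nat_lit 1)],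
  [(nat_lit 12), (nat_lit 4), (nat_lit 1), (nat_lit 11), (nat_lit 7)]], (nat_lit 2)⟩,
  ⟨(nat_lit 5), [[(nat_lit 16), (nat_lit 12), (nat_lit 1), (nat_lit 3), (nat_lit 11), (nat_lit 15), (nat_lit 7), (nat_lit 3), (nat_lit 1)]], (nat_lit 2)⟩]
noncomputable def cX1 : List Lvl := [⟨(nat_lit 1), [[(nat_lit 7)],
  [(nat_lit 1)],
  [(nat_lit 3)],
  [(nat_lit 21)]], (nat_lit 2)⟩,
  ⟨(nat_lit 2), [[(nat_lit 18), (nat_lit 3)],
  [(nat_lit 8), (nat_lit 21)]], (nat_lit 2)⟩]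
noncomputable def cX2 : List Lvl := [⟨(nat_lit 1), [[(nat_lit 9)],
  [(nat_lit 7)],
  [(nat_lit 17)],
  [(nat_lit 1)],
  [(nat_lit 13)]], (nat_lit 1)⟩,
  ⟨(nat_lit 2), [[(nat_lit 13)],
  [(nat_lit 20), (nat_lit 2)]], (nat_lit 2)⟩]
noncomputable def cX3 : List Lvl := [⟨(nat_lit 1), [[(nat_lit 17)],
  [(nat_lit 11)],
  [(nat_lit 1)],
  [(nat_lit 5)],
  [(nat_lit 13)]], (nat_lit 1)⟩,
  ⟨(nat_lit 2), [[(nat_lit 13)],
  [(nat_lit 20), (nat_lit 2)],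
  [(nat_lit 8), (nat_lit 5)],
  [(nat_lit 12), (nat_lit 7), (nat_lit 9)]], (nat_lit 1)⟩,
  ⟨(nat_lit 3), [[(nat_lit 10), (nat_lit 14), (nat_lit 5), (nat_lit 11)],
  [(nat_lit 8), (nat_lit 6), (nat_lit 19), (nat_lit 2)]], (nat_lit 2)⟩,
  ⟨(nat_lit 0), [[(nat_lit 10), (nat_lit 14), (nat_lit 5), (nat_lit 11)]], (nat_lit 1)⟩]
noncomputable def TX1 : Tr := (.op 2 0 (.op 5 0 (.xor 1 0 (.focus 0 (.sym [[1], [3], [5], [7], [9]] (.cons [] 2 6 (.focus 1 (.xor 3 0 (.focus 0 (.op 4 1 (.xor 5 0 (.focus 0 (.op 7 3 (.xor 7 0 (.focus 0 (.sym [[7], [9]] (.cons [] 2 1 (.focus 8 (.base (nat_lit 8388609) (.focus 0 (.cons [] 0 1 (.op 7 2 (.focus 0 (.cons [] 0 1 (.focus 6 (.cons [] 0 1 (.focus 12 (.base (nat_lit 147488) (.focus 0 (.cons [] 0 1 .triv (.cons [2] 0 0 (.base (nat_lit 64) (.and 0 16 (.dead0 0))) .nil))))) .nil)) .nil))) (.cons [7] 0 0 (.op 7 2 (.focus 0 (.cons [] 0 0 (.focus 6 (.cons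 [5, 3] 0 0 (.base (nat_lit 294976) (.and 0 10 (.dead0 0))) .nil)) .nil))) .nil))))) (.cons [9, 1] 1 0 (.focus 8 (.base (nat_lit 8388609) (.focus 0 (.sym [[11]] (.cons [] 1 0 (.op 7 2 (.focus 0 (.cons [5, 3, 5] 0 0 (.base (nat_lit 8241104) (.and 0 13 (.dead 0))) .nil))) .nil))))) (.cons [7, 6] 1 0 (.focus 8 (.base (nat_lit 8388609) (.focus 0 (.sym [[13]] (.cons [] 1 0 (.op 7 2 (.focus 0 (.cons [5] 0 0 (.focus 6 (.cons [5] 0 0 (.base (nat_lit 5248) (.and 0 10 (.dead0 0))) .nil)) .nil))) .nil))))) (.cons [6, 1, 3] 2 0 (.focus 8 (.base (nat_lit 8388609) (.focus 0 (.sym [[9]] (.cons [] 1 0 (.op 7 2 (.focus 0 (.cons [10, 3, 5] 0 0 (.base (nat_lit 8241104) (.and 0 13 (.dead 0))) .nil))) .nil))))) .nil)))))))))))))) (.cons [7, 2] 1 0 (.focus 1 (.xor 3 0 (.focus 0 (.op 4 1 (.xor 5 0 (.focus 0 (.op 7 3 (.xor 7 0 (.focus 0 (.sym [[1], [3], [15]] (.cons [] 2 0 (.focus 8 (.base (nat_lit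 8388609) (.focus 0 (.cons [] 0 0 (.op 7 2 (.focus 0 (.cons [1, 5] 0 0 (.base (nat_lit 8241104) (.and 0 13 (.dead 0))) .nil))) (.cons [7] 0 0 (.op 7 2 (.focus 0 (.cons [5] 0 0 (.base (nat_lit 8241104) (.and 0 13 (.dead 0))) .nil))) .nil))))) (.cons [1] 2 0 (.focus 8 (.base (nat_lit 8388609) (.focus 0 (.cons [] 0 0 (.op 7 2 (.focus 0 (.cons [3, 5] 0 0 (.base (nat_lit 8241104) (.and 0 13 (.dead 0))) .nil))) (.cons [7] 0 0 (.op 7 2 (.focus 0 (.cons [1, 3, 5] 0 0 (.base (nat_lit 8241104) (.and 0 13 (.dead 0))) .nil))) .nil))))) .nil)))))))))))) .nil)))))))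
noncomputable def TX1K : List (List ℕ) := [[7], [17], [1], [3, 7], [21, 7], [21, 3, 17], [21, 4], [3, 2]]
noncomputable def TX1F : List (List ℕ) := [[], [1]]
noncomputable def TX2 : Tr := (.op 2 0 (.op 5 0 (.xor 1 0 (.focus 0 (.sym [[1], [3], [5], [7], [9], [11]] (.cons [] 1 6 (.focus 2 (.base (nat_lit 8388604) (.focus 0 (.sym [[9], [11]] (.cons [] 2 1 (.focus 4 (.xor 5 0 (.focus 0 (.base (nat_lit 8388609) (.focus 0 (.cons [] 0 1 (.focus 7 (.xor 8 1 (.focus 0 (.focus 3 (.cons [] 0 1 (.focus 8 (.xor 10 7 (.focus 0 (.base (nat_lit 147488) (.op 10 0 (.focus 0 (.cons [] 0 1 (.op 10 0 (.focus 0 (.cons [] 0 1 .triv .nil))) (.cons [6, 3] 0 0 (.base (nat_lit 5248) (.op 4 1 (.op 10 0 (.and 2 0 (.dead0 0))))) (.cons [5, 1, 3] 0 0 (.base (nat_lit 5248) (.op 4 1 (.and 1 0 (.dead0 0)))) .nil))))))))) (.cons [1] 0 0 (.base (nat_lit 8241104) (.op 10 8 (.and 1 0 (.dead0 0)))) (.cons [5] 0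 0 (.base (nat_lit 8241104) (.op 4 8 (.op 10 0 (.and 2 0 (.dead0 0))))) (.cons [1, 5] 0 0 (.focus 8 (.xor 10 7 (.focus 0 (.base (nat_lit 147488) (.op 10 0 (.focus 0 (.cons [4] 0 0 (.base (nat_lit 5248) (.op 4 1 (.op 10 0 (.and 2 0 (.dead0 0))))) (.cons [6] 0 0 (.base (nat_lit 5248) (.op 4 1 (.and 1 0 (.dead0 0)))) (.cons [5, 3] 0 0 (.base (nat_lit 1574912) (.op 4 1 (.and 1 0 (.dead0 0)))) .nil))))))))) (.cons [6, 1] 0 0 (.base (nat_lit 8241104) (.op 4 8 (.and 1 0 (.dead0 0)))) .nil))))))))) (.cons [7] 0 0 (.focus 7 (.xor 8 1 (.focus 0 (.focus 3 (.cons [] 0 0 (.focus 8 (.xor 10 7 (.focus 0 (.base (nat_lit 147488) (.op 10 0 (.focus 0 (.cons [4] 0 0 (.base (nat_lit 294976) (.op 4 1 (.op 10 0 (.and 2 0 (.dead0 0))))) (.cons [6] 0 0 (.base (nat_lit 294976) (.op 4 1 (.and 1 0 (.dead0 0)))) (.cons [5, 3] 0 0 (.op 10 0 (.focus 0 (.cons [] 0 0 (.base (nat_lit 65536) (.op 4 1 (.and 1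 0 (.dead0 0)))) .nil))) .nil))))))))) (.cons [5] 0 0 (.focus 8 (.xor 10 7 (.focus 0 (.base (nat_lit 147488) (.op 10 0 (.focus 0 (.cons [] 0 0 (.base (nat_lit 294976) (.op 4 1 (.and 1 0 (.dead0 0)))) (.cons [5, 4] 0 0 (.base (nat_lit 294976) (.op 4 1 (.op 10 0 (.and 2 0 (.dead0 0))))) (.cons [5, 1, 3] 0 0 (.base (nat_lit 1574912) (.op 4 1 (.and 1 0 (.dead0 0)))) .nil))))))))) (.cons [1] 0 0 (.base (nat_lit 8241104) (.op 10 8 (.and 1 0 (.dead0 0)))) (.cons [1, 5] 0 0 (.base (nat_lit 8241104) (.op 4 8 (.op 10 0 (.and 2 0 (.dead0 0))))) (.cons [6, 1] 0 0 (.base (nat_lit 8241104) (.op 4 8 (.and 1 0 (.dead0 0)))) .nil))))))))) .nil))))))) .nil))))) .nil))))))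
noncomputable def TX2K : List (List ℕ) := [[9], [19], [7], [17], [1, 19], [13]]
noncomputable def TX2F : List (List ℕ) := [[], [1], [3]]
noncomputable def TX3 : Tr := (.op 2 0 (.op 5 0 (.xor 1 0 (.focus 0 (.sym [[1], [3], [5], [7], [9], [11], [13], [15]] (.cons [] 1 48 (.focus 2 (.base (nat_lit 8388604) (.focus 0 (.sym [[9], [11], [13], [15]] (.cons [] 2 8 (.focus 4 (.xor 5 0 (.focus 0 (.base (nat_lit 8388609) (.focus 0 (.sym [[13], [15]] (.cons [] 1 4 (.focus 7 (.xor 8 1 (.focus 0 (.focus 3 (.sym [[13], [17]] (.cons [] 1 1 (.focus 8 (.xor 10 7 (.focus 0 (.op 4 8 (.xor 12 0 (.focus 0 (.base (nat_lit 8241104) (.focus 0 (.op 4 0 (.focus 0 (.cons [] 0 1 (.focus 14 (.base (nat_lit 147488) (.focus 0 (.base (nat_lit 294976) (.op 4 0 (.xor 19 0 (.focus 0 (.cons [] 0 1 .triv (.cons [1] 0 0 (.base (nat_lit 64) (.and 0 21 (.dead0 0))) .nil))))))))) (.cons [4] 0 0 (.base (nat_lit 1574912)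 (.and 0 5 (.dead0 0))) (.cons [6] 0 0 (.base (nat_lit 294976) (.and 0 5 (.dead0 0))) (.cons [5, 4] 0 0 (.base (nat_lit 294976) (.and 0 5 (.dead0 0))) (.cons [6, 3] 0 0 (.base (nat_lit 1574912) (.and 0 5 (.dead0 0))) (.cons [1, 3] 0 0 (.base (nat_lit 5248) (.and 0 5 (.dead0 0))) (.cons [5, 3] 0 0 (.focus 14 (.focus 5 (.focus 3 (.xor 16 0 (.focus 0 (.base (nat_lit 147488) (.focus 0 (.base (nat_lit 294976) (.op 4 0 (.xor 20 0 (.focus 0 (.cons [] 0 0 (.base (nat_lit 65536) (.op 4 1 (.and 1 0 (.dead0 0)))) (.cons [1] 0 0 (.base (nat_lit 64) (.and 0 22 (.dead0 0))) .nil))))))))))))) (.cons [5, 1, 3] 0 0 (.base (nat_lit 5248) (.and 0 5 (.dead0 0))) .nil)))))))))))))))))) (.cons [6, 1] 0 0 (.base (nat_lit 8241104) (.op 4 8 (.and 1 0 (.dead0 0)))) .nil))))))) .nil))))))) .nil))))) .nil))))))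
noncomputable def TX3K : List (List ℕ) := [[9], [19], [7], [17], [11, 7, 9], [1, 19], [5, 11, 2, 11, 7], [13, 5, 11, 9], [5, 19, 2, 7]]
noncomputable def TX3F : List (List ℕ) := [[], [1]]

theorem chk_X : evsOK nA 24 5 nX wX = true := by decide +kernel

theorem chk_X0 : chainOK nX 24 cX0 = true ∧ 887040 ≤ chainProd nX 24 cX0 ∧
    lall (wordIn [[1], [3], [5], [7], [9], [11], [13], [15]]) (cgens cX0) = true := by decide +kernel

theorem chk_X1 : stdOK nX 24 5 cX0 [[1]] [[1]] [] [] TX1F TX1K TX1 72 = true ∧ chainOK nX 24 cX1 = true ∧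
    72 ≤ chainProd nX 24 cX1 ∧ commW nX 24 5 (cgens cX1) [[1]] = true ∧
    lall (wordIn [[7], [17], [1], [3], [21]]) (cgens cX1) = true := by decide +kernel

theorem chk_X2 : stdOK nX 24 5 cX0 [[7], [17]] [[7], [17]] [] [] TX2F TX2K TX2 96 = true ∧ chainOK nX 24 cX2 = true ∧
    96 ≤ chainProd nX 24 cX2 ∧ commW nX 24 5 (cgens cX2) [[7], [17]] = true ∧
    lall (wordIn [[9], [19], [7], [17], [1], [13]]) (cgens cX2) = true := by decide +kernel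

theorem chk_X3 : stdOK nX 24 5 cX0 [[7]] [[7]] [] [] TX3F TX3K TX3 768 = true ∧ chainOK nX 24 cX3 = true ∧
    768 ≤ chainProd nX 24 cX3 ∧ commW nX 24 5 (cgens cX3) [[7]] = true ∧
    lall (wordIn [[9], [19], [7], [17], [11], [1], [5], [13]]) (cgens cX3) = true := by decide +kernel

end CF.JX
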