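import Cfsg.Agent.JX.AD
import Cfsg.Agent.J4.IC

/-! Checks for involutions modulo the centre. -/

set_option autoImplicit false
set_option maxRecDepth 1000000
set_option maxHeartbeats 0
set_option Elab.async false

namespace CF.JX
open CF.Comp CF.Dce CF.J4

/-- the code of a word -/
noncomputable def cdF (w : List ℕ) : ℕ := evW (am 12) (mo 12) (nth (mo 12) LF) w

/-- a lift of an involution -/
noncomputable def wT : List ℕ := lapp (nth [] wX 3) [9, 9]

/-- a lift of an element of order three -/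
noncomputable def wY : List ℕ := nth [] wX 0

theorem chk_u1 : force (cdF wT) (fun T => force (cdF wY) fun Y => allBin (fun v =>
    imp (Nat.beq (vm 12 v T) v) (lany (fun w => force (Nat.xor (Nat.xor (vm 12 w T) v) w) fun d =>
      Nat.beq (vm 12 d Y) d) [0, 1, 2, 3, 16, 17, 18, 19, 32, 33, 34, 35, 48, 49, 50, 51])) 4096 12 0) = true := by
  decide +kernel

theorem chk_u2 : Nat.lor (Nat.lor (Nat.lor (orb nF [[1], [5], [7], [9]] 6 (Nat.shiftLeft (nat_lit 1) 90))
    (orb nF [[1], [5], [7], [9]] 6 (Nat.shiftLeft (nat_lit 1) 1576)))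
    (orb nF [[1], [5], [7], [9]] 6 (Nat.shiftLeft (nat_lit 1) 1693))) 1 = full 4096 := by decide +kernel

theorem chk_u3 : (∀ r ∈ [90, 1576, 1693], vm 12 r (cdF wY) = r) ∧
    pw (am 12) (mo 12) (cdF wY) 3 = mo 12 ∧ pw (am 12) (mo 12) (cdF wY) 4 = cdF wY ∧ cdF wY ≠ mo 12 ∧
    am 12 (cdF wT) (cdF wT) = mo 12 ∧ am 12 (cdF wT) (cdF wY) = am 12 (cdF wY) (cdF wT) ∧
    ∀ i < 3, vm 12 1 (pw (am 12) (mo 12) (am 12 (pw (am 12) (mo 12) p0 i) (cdF wT)) 2) = 1 → i = 0 := by
  decide +kernel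

end CF.JX
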